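import Groth.Agent.H18Cech.Generic
import Mathlib.Algebra.Category.Grp.Adjunctions
import Mathlib.Algebra.Category.Grp.EpiMono
import Mathlib.CategoryTheory.Abelian.FunctorCategory
import Mathlib.CategoryTheory.Preadditive.Injective.Basic
import Mathlib.GroupTheory.FreeAbelianGroup

/-!
# Cech cohomology of injective presheaves vanishes, for small families in a locally small category
-/

set_option autoImplicit false

universe w v u

open CategoryTheory CategoryTheory.Limits Opposite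

namespace Groth.Agent.H18Cech

set_option backward.isDefEq.respectTransparency false

variable {C : Type u} [Category.{v} C] [LocallySmall.{w} C] {U : C} [HasFiniteProducts (Over U)]
  {ι : Type w} (Y : ι → Over U)

/-- Generators in degree `n`. -/
abbrev Gen (n : ℕ) (V : C) : Type w := Σ a : Fin (n + 1) → ι, Shrink.{w} (V ⟶ (∏ᶜ (Y ∘ a)).left)

variable {Y} in
/-- The morphism of a generator. -/
noncomputable abbrev Gen.hom {n : ℕ} {V : C} (σ : Gen Y n V) : V ⟶ (∏ᶜ (Y ∘ σ.1)).left :=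
  (equivShrink.{w} _).symm σ.2

variable {Y} in
/-- The tuple of a generator. -/
noncomputable abbrev Gen.tuple {n : ℕ} {V : C} (σ : Gen Y n V) :
    Fin (n + 1) → T Y (σ.hom ≫ (∏ᶜ (Y ∘ σ.1)).hom) :=
  pullT σ.hom rfl (taut Y σ.1)

/-- The generator given by a morphism. -/
noncomputable abbrev mkGen {n : ℕ} {V : C} (a : Fin (n + 1) → ι) (h : V ⟶ (∏ᶜ (Y ∘ a)).left) :
    Gen Y n V := ⟨a, equivShrink.{w} _ h⟩

/-- The free presheaf in degree `n`. -/
noncomputable def F (n : ℕ) : Cᵒᵖ ⥤ AddCommGrpCat.{w} where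
  obj V := AddCommGrpCat.of (FreeAbelianGroup (Gen Y n V.unop))
  map b := AddCommGrpCat.ofHom (FreeAbelianGroup.map fun σ => mkGen Y σ.1 (b.unop ≫ σ.hom))
  map_id V := by
    ext1
    refine FreeAbelianGroup.lift_ext _ _ fun σ => ?_
    simp [mkGen, Gen.hom, FreeAbelianGroup.map_of_apply]
  map_comp {V W Z} b b' := by
    ext1
    refine FreeAbelianGroup.lift_ext _ _ fun σ => ?_
    simp [mkGen, Gen.hom, FreeAbelianGroup.map_of_apply]

/-- The boundary. -/
noncomputable def bd (n : ℕ) : F Y (n + 1) ⟶ F Y n where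
  app V := AddCommGrpCat.ofHom (FreeAbelianGroup.lift fun σ : Gen Y (n + 1) V.unop =>
    ∑ j : Fin (n + 2), ((-1 : ℤ) ^ (j : ℕ)) •
      FreeAbelianGroup.of (mkGen Y (σ.1 ∘ j.succAbove) (σ.hom ≫ (faceOver Y j σ.1).left)))
  naturality {V W} b := by
    ext1
    refine FreeAbelianGroup.lift_ext _ _ fun σ => ?_
    simp [F, mkGen, Gen.hom, FreeAbelianGroup.map_of_apply]

variable (P : Cᵒᵖ ⥤ AddCommGrpCat.{w})

/-- The morphism given by a cochain. -/
noncomputable def toP {n : ℕ} (x : C' Y P n) : F Y n ⟶ P where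
  app V := AddCommGrpCat.ofHom (FreeAbelianGroup.lift fun σ : Gen Y n V.unop => ev Y P σ.tuple x)
  naturality {V W} b := by
    ext1
    refine FreeAbelianGroup.lift_ext _ _ fun σ => ?_
    simp only [F, AddCommGrpCat.hom_comp, AddMonoidHom.comp_apply, AddCommGrpCat.hom_ofHom,
      FreeAbelianGroup.map_of_apply, FreeAbelianGroup.lift_apply_of]
    rw [show (P.map b).hom (ev Y P σ.tuple x) = (P.map b.unop.op).hom (ev Y P σ.tuple x) from rfl,
      ← ev_natural Y P b.unop rfl]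
    refine ev_congr Y P (fun k => ?_) x
    have he : (mkGen Y σ.1 (b.unop ≫ σ.hom)).hom = b.unop ≫ σ.hom := Equiv.symm_apply_apply _ _
    refine Sigma.ext rfl (heq_of_eq ?_)
    show (mkGen Y σ.1 (b.unop ≫ σ.hom)).hom ≫ _ = b.unop ≫ σ.hom ≫ _
    rw [he, Category.assoc]

theorem toP_of {n : ℕ} (x : C' Y P n) {V : Cᵒᵖ} (σ : Gen Y n V.unop) :
    ((toP Y P x).app V).hom (FreeAbelianGroup.of σ) = ev Y P σ.tuple x :=
  FreeAbelianGroup.lift_apply_of _ _

theorem exists_toP_eq {n : ℕ} (ψ : F Y n ⟶ P) : ∃ y : C' Y P n, toP Y P y = ψ := by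
  refine ⟨(Concrete.productEquiv (val Y P n)).symm fun a =>
    (ψ.app (op _)).hom (FreeAbelianGroup.of (mkGen Y a (𝟙 _))), ?_⟩
  ext V : 3
  refine FreeAbelianGroup.lift_ext _ _ fun σ => ?_
  refine (toP_of Y P _ σ).trans ?_
  rw [ev_natural Y P σ.hom rfl]
  refine (congrArg (P.map σ.hom.op).hom ((ev_taut Y P σ.1 _).trans
    (Concrete.productEquiv_symm_apply_π (val Y P n) _ σ.1))).trans ?_
  refine (ConcreteCategory.congr_hom (ψ.naturality σ.hom.op) _).symm.trans ?_
  refine congrArg (ψ.app V).hom ?_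
  exact (FreeAbelianGroup.map_of_apply _).trans (congrArg FreeAbelianGroup.of (by simp [mkGen, Gen.hom]))

theorem ker_bd_le {n : ℕ} (x : C' Y P (n + 1)) (hx : (d Y P (n + 1)).hom x = 0) (V : Cᵒᵖ) :
    ∃ φ : (F Y n).obj V ⟶ P.obj V, (bd Y n).app V ≫ φ = (toP Y P x).app V := by
  classical
  let ch : ∀ {W : C} (g : W ⟶ U), T Y g → T Y g := fun g t => Classical.choice (α := T Y g) ⟨t⟩
  have hch : ∀ {W : C} {g g' : W ⟶ U} (e : g = g') (t : T Y g) (t' : T Y g'),
      (ch g t).1 = (ch g' t').1 := by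
    intro W g g' e t t'
    subst e
    rfl
  refine ⟨AddCommGrpCat.ofHom (FreeAbelianGroup.lift fun σ : Gen Y n V.unop =>
    ev Y P (Fin.cons (ch _ (σ.tuple 0)) σ.tuple : Fin (n + 2) → T Y _) x), ?_⟩
  ext1
  refine FreeAbelianGroup.lift_ext _ _ fun σ => ?_
  refine Eq.trans ?_ (toP_of Y P x σ).symm
  let t₀ := ch _ (σ.tuple 0)
  have h0 := congrArg (fun z => ev Y P (Fin.cons t₀ σ.tuple : Fin (n + 3) → T Y _) z) hx
  simp only [map_zero] at h0
  rw [ev_d, Fin.sum_univ_succ, Fin.val_zero, pow_zero, one_smul,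
    show (Fin.cons t₀ σ.tuple : Fin (n + 3) → T Y _) ∘ (0 : Fin (n + 3)).succAbove = σ.tuple from
      funext fun k => by simp] at h0
  rw [eq_neg_of_add_eq_zero_left h0, ← Finset.sum_neg_distrib]
  simp only [bd, AddCommGrpCat.hom_comp, AddMonoidHom.comp_apply, AddCommGrpCat.hom_ofHom]
  refine ((congrArg _ (FreeAbelianGroup.lift_apply_of _ _)).trans (map_sum _ _ _)).trans
    (Finset.sum_congr rfl fun j _ => ?_)
  refine ((map_zsmul _ _ _).trans (congrArg _ (FreeAbelianGroup.lift_apply_of _ _))).trans ?_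
  rw [Fin.val_succ, pow_succ, mul_neg_one, neg_smul, neg_neg]
  refine congrArg (_ • ·) ?_
  let σ' : Gen Y n V.unop := mkGen Y (σ.1 ∘ j.succAbove) (σ.hom ≫ (faceOver Y j σ.1).left)
  have hσ' : ∀ k, (σ'.tuple k).1 = (σ.tuple (j.succAbove k)).1 := fun k => by
    have he : σ'.hom = σ.hom ≫ (faceOver Y j σ.1).left := Equiv.symm_apply_apply _ _
    refine Sigma.ext rfl (heq_of_eq ?_)
    show σ'.hom ≫ _ = σ.hom ≫ _
    rw [he, Category.assoc]
    exact congrArg (σ.hom ≫ ·) (congrArg (fun m : ∏ᶜ (Y ∘ σ.1) ⟶ (Y ∘ σ.1) (j.succAbove k) => m.left)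
      (Pi.lift_π (fun i => Pi.π (Y ∘ σ.1) (j.succAbove i)) k))
  have hg : σ'.hom ≫ (∏ᶜ (Y ∘ σ'.1)).hom = σ.hom ≫ (∏ᶜ (Y ∘ σ.1)).hom := by
    rw [show σ'.hom = σ.hom ≫ (faceOver Y j σ.1).left from Equiv.symm_apply_apply _ _, Category.assoc]
    exact congrArg (σ.hom ≫ ·) (Over.w (faceOver Y j σ.1))
  refine ev_congr Y P (fun k => ?_) x
  cases k using Fin.cases with
  | zero =>
    simp only [Fin.cons_zero, Function.comp_apply, Fin.succ_succAbove_zero, t₀]
    exact hch hg (σ'.tuple 0) (σ.tuple 0)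
  | succ k =>
    simp only [Fin.cons_succ, Function.comp_apply, Fin.succ_succAbove_succ]
    exact hσ' k

theorem isZero_cechH_of_injective [Injective P] (n : ℕ) : IsZero (EtCech.cechH Y P (n + 1)) := by
  refine isZero_cechH_succ Y P fun x hx => ?_
  let e := Abelian.factorThruImage (bd Y n)
  have hk : kernel.ι e ≫ toP Y P x = 0 := by
    ext V : 2
    obtain ⟨φ, hφ⟩ := ker_bd_le Y P x hx V
    rw [NatTrans.comp_app, ← hφ, ← Category.assoc, ← NatTrans.comp_app,
      show kernel.ι e ≫ bd Y n = 0 from (congrArg (kernel.ι e ≫ ·) (Abelian.image.fac (bd Y n))).symm.trans ((Category.assoc _ _ _).symm.trans ((congrArg (· ≫ _) (kernel.condition e)).trans zero_comp))]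
    exact zero_comp
  let ψ₀ := Abelian.epiDesc e (toP Y P x) hk
  obtain ⟨y, hy⟩ := exists_toP_eq Y P (Injective.factorThru ψ₀ (Abelian.image.ι (bd Y n)))
  have h : bd Y n ≫ toP Y P y = toP Y P x := by
    calc bd Y n ≫ toP Y P y = (e ≫ Abelian.image.ι (bd Y n)) ≫ Injective.factorThru ψ₀ (Abelian.image.ι (bd Y n)) := by
          rw [hy, Abelian.image.fac]
      _ = toP Y P x := by rw [Category.assoc, Injective.comp_factorThru]; exact Abelian.comp_epiDesc _ _ _
  refine ⟨y, hom_ext Y P fun V g τ => ?_⟩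
  let σ : Gen Y (n + 1) V := mkGen Y (idx τ) (liftT τ).left
  have hs : ∀ k, (σ.tuple k).1 = (τ k).1 := fun k => by
    refine Sigma.ext rfl (heq_of_eq ?_)
    show σ.hom ≫ _ = _
    rw [show σ.hom = (liftT τ).left from Equiv.symm_apply_apply _ _]
    exact congrArg (fun m : Over.mk g ⟶ (Y ∘ idx τ) k => m.left) (liftT_π τ k)
  rw [← ev_congr Y P hs, ← ev_congr Y P hs, ← toP_of Y P x, ← h, ev_d]
  simp only [NatTrans.comp_app, AddCommGrpCat.hom_comp, AddMonoidHom.comp_apply, bd,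
    AddCommGrpCat.hom_ofHom]
  refine Eq.trans ?_ ((congrArg _ (FreeAbelianGroup.lift_apply_of _ _)).trans (map_sum _ _ _)).symm
  refine Finset.sum_congr rfl fun j _ => ?_
  refine Eq.trans ?_ ((map_zsmul _ _ _).trans (congrArg _ (toP_of Y P y _))).symm
  refine congrArg (_ • ·) ?_
  refine ev_congr Y P (fun k => ?_) y
  let σ' : Gen Y n V := mkGen Y (σ.1 ∘ j.succAbove) (σ.hom ≫ (faceOver Y j σ.1).left)
  show (σ.tuple (j.succAbove k)).1 = (σ'.tuple k).1
  refine Sigma.ext rfl (heq_of_eq ?_)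
  show σ.hom ≫ _ = σ'.hom ≫ _
  rw [show σ'.hom = σ.hom ≫ (faceOver Y j σ.1).left from Equiv.symm_apply_apply _ _, Category.assoc]
  exact (congrArg (σ.hom ≫ ·) (congrArg (fun m : ∏ᶜ (Y ∘ σ.1) ⟶ (Y ∘ σ.1) (j.succAbove k) => m.left)
    (Pi.lift_π (fun i => Pi.π (Y ∘ σ.1) (j.succAbove i)) k))).symm

end Groth.Agent.H18Cech
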