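import Groth.Agent.H18Cech.Generic
import Mathlib.CategoryTheory.Sites.Sheaf
import Mathlib.CategoryTheory.Sites.Abelian
import Mathlib.CategoryTheory.Sites.EpiMono
import Mathlib.Algebra.Category.Grp.EpiMono
import Mathlib.CategoryTheory.Abelian.Exact
import Mathlib.Algebra.Homology.HomologySequence
import Mathlib.Algebra.Homology.HomologicalComplexAbelian
import Mathlib.Algebra.Homology.ShortComplex.Ab

/-!
# Lifting sections along epimorphisms of sheaves when Čech `H¹` of the kernel vanishes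
-/

set_option autoImplicit false

universe w v u

open CategoryTheory CategoryTheory.Limits Opposite

namespace Groth.Agent.H18Cech

set_option backward.isDefEq.respectTransparency false

variable {C : Type u} [Category.{v} C] {U : C} [HasFiniteProducts (Over U)] {ι : Type w} (Y : ι → Over U)

/-- Functoriality. -/
noncomputable abbrev mapC {P P' : Cᵒᵖ ⥤ AddCommGrpCat.{w}} (α : P ⟶ P') (n : ℕ) : C' Y P n ⟶ C' Y P' n :=
  ((cechComplexFunctor Y).map (Functor.whiskerLeft (Over.forget U).op α)).f n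

theorem π_mapC {P P' : Cᵒᵖ ⥤ AddCommGrpCat.{w}} (α : P ⟶ P') {n : ℕ} (x : C' Y P n) (a : Fin (n + 1) → ι) :
    (Pi.π (val Y P' n) a).hom ((mapC Y α n).hom x) = (α.app _).hom ((Pi.π (val Y P n) a).hom x) :=
  ConcreteCategory.congr_hom (Pi.map_π (f := val Y P n) (g := val Y P' n) (fun _ => α.app _) a) x

theorem ev_mapC {P P' : Cᵒᵖ ⥤ AddCommGrpCat.{w}} (α : P ⟶ P') {n : ℕ} (x : C' Y P n) {V : C} {g : V ⟶ U}
    (τ : Fin (n + 1) → T Y g) : ev Y P' τ ((mapC Y α n).hom x) = (α.app (op V)).hom (ev Y P τ x) := by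
  rw [ev_apply, ev_apply, π_mapC]
  exact (ConcreteCategory.congr_hom (α.naturality (liftT τ).left.op) _).symm

theorem d_d (P : Cᵒᵖ ⥤ AddCommGrpCat.{w}) {n : ℕ} (x : C' Y P n) : (d Y P (n + 1)).hom ((d Y P n).hom x) = 0 :=
  ConcreteCategory.congr_hom
    (((cechComplexFunctor Y).obj ((Over.forget U).op ⋙ P)).d_comp_d n (n + 1) (n + 2)) x

/-- The short complex of Čech complexes. -/
noncomputable def cxSC (S : ShortComplex (Cᵒᵖ ⥤ AddCommGrpCat.{w})) : ShortComplex (CochainComplex AddCommGrpCat.{w} ℕ) :=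
  ShortComplex.mk ((cechComplexFunctor Y).map (Functor.whiskerLeft (Over.forget U).op S.f))
    ((cechComplexFunctor Y).map (Functor.whiskerLeft (Over.forget U).op S.g)) (by
      refine HomologicalComplex.hom_ext _ _ fun n => ?_
      refine ConcreteCategory.hom_ext _ _ fun (x : C' Y S.X₁ n) => ?_
      show (mapC Y S.g n).hom ((mapC Y S.f n).hom x) = (0 : C' Y S.X₃ n)
      apply (Concrete.productEquiv (val Y S.X₃ n)).injective
      funext a
      rw [Concrete.productEquiv_apply_apply, Concrete.productEquiv_apply_apply, map_zero]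
      refine (π_mapC Y S.g _ a).trans ((congrArg (S.g.app _).hom (π_mapC Y S.f x a)).trans ?_)
      exact ConcreteCategory.congr_hom ((NatTrans.comp_app S.f S.g _).symm.trans
        (congrArg (fun m => NatTrans.app m _) S.zero)) _)

theorem shortExact_map {S : ShortComplex (Cᵒᵖ ⥤ AddCommGrpCat.{w})}
    (hi : ∀ V, Function.Injective (S.f.app V))
    (he : ∀ V x, S.g.app V x = 0 → ∃ y, S.f.app V y = x)
    (hs : ∀ (n : ℕ) (a : Fin (n + 1) → ι), Function.Surjective (S.g.app (op (∏ᶜ (Y ∘ a)).left))) :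
    (cxSC Y S).ShortExact := by
  refine HomologicalComplex.shortExact_of_degreewise_shortExact _ fun n => ?_
  refine { exact := ?_, mono_f := ?_, epi_g := ?_ }
  · rw [ShortComplex.ab_exact_iff]
    intro (x : C' Y S.X₂ n) (hx : (mapC Y S.g n).hom x = 0)
    have hx' : ∀ a, (S.g.app _).hom ((Pi.π (val Y S.X₂ n) a).hom x) = 0 := fun a => by
      rw [← π_mapC, hx, map_zero]
    choose y hy using fun a => he _ _ (hx' a)
    refine ⟨(Concrete.productEquiv (val Y S.X₁ n)).symm y, ?_⟩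
    show (mapC Y S.f n).hom ((Concrete.productEquiv (val Y S.X₁ n)).symm y) = x
    apply (Concrete.productEquiv (val Y S.X₂ n)).injective
    funext a
    rw [Concrete.productEquiv_apply_apply, Concrete.productEquiv_apply_apply]
    refine (π_mapC Y S.f _ a).trans (Eq.trans ?_ (hy a))
    exact congrArg (S.f.app _).hom (Concrete.productEquiv_symm_apply_π (val Y S.X₁ n) y a)
  · refine (AddCommGrpCat.mono_iff_injective _).2 fun (x : C' Y S.X₁ n) (x' : C' Y S.X₁ n) hxx => ?_
    apply (Concrete.productEquiv (val Y S.X₁ n)).injective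
    funext a
    rw [Concrete.productEquiv_apply_apply, Concrete.productEquiv_apply_apply]
    refine hi _ ?_
    exact ((π_mapC Y S.f x a).symm.trans (congrArg (Pi.π (val Y S.X₂ n) a).hom hxx)).trans (π_mapC Y S.f x' a)
  · refine (AddCommGrpCat.epi_iff_surjective _).2 fun (x : C' Y S.X₃ n) => ?_
    choose y hy using fun a => hs n a ((Pi.π (val Y S.X₃ n) a).hom x)
    refine ⟨(Concrete.productEquiv (val Y S.X₂ n)).symm y, ?_⟩
    show (mapC Y S.g n).hom ((Concrete.productEquiv (val Y S.X₂ n)).symm y) = x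
    apply (Concrete.productEquiv (val Y S.X₃ n)).injective
    funext a
    rw [Concrete.productEquiv_apply_apply, Concrete.productEquiv_apply_apply]
    refine (π_mapC Y S.g _ a).trans (Eq.trans ?_ (hy a))
    exact congrArg (S.g.app _).hom (Concrete.productEquiv_symm_apply_π (val Y S.X₂ n) y a)

theorem exists_of_isZero_cechH_succ (P : Cᵒᵖ ⥤ AddCommGrpCat.{w}) {n : ℕ}
    (h : IsZero (EtCech.cechH Y P (n + 1))) (x : C' Y P (n + 1)) (hx : (d Y P (n + 1)).hom x = 0) :
    ∃ y, (d Y P n).hom y = x := by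
  have h' := (HomologicalComplex.exactAt_iff_isZero_homology _ _).2 h
  rw [HomologicalComplex.exactAt_iff' _ n (n + 1) (n + 2) (by simp) (by simp),
    ShortComplex.ab_exact_iff] at h'
  exact h' x hx

/-- Lifting a section. -/
theorem exists_lift_of_isZero {S : ShortComplex (Cᵒᵖ ⥤ AddCommGrpCat.{w})}
    (hi : ∀ V, Function.Injective (S.f.app V))
    (he : ∀ V x, S.g.app V x = 0 → ∃ y, S.f.app V y = x)
    (h₂ : Presieve.IsSheafFor (S.X₂ ⋙ forget AddCommGrpCat.{w})
      (Presieve.ofArrows (fun i => (Y i).left) (fun i => (Y i).hom)))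
    (h₃ : Presieve.IsSeparatedFor (S.X₃ ⋙ forget AddCommGrpCat.{w})
      (Presieve.ofArrows (fun i => (Y i).left) (fun i => (Y i).hom)))
    (h0 : IsZero (EtCech.cechH Y S.X₁ 1)) (h : S.X₃.obj (op U))
    (hT : ∀ i, ∃ r, S.g.app (op (Y i).left) r = S.X₃.map (Y i).hom.op h) :
    ∃ t, S.g.app (op U) t = h := by
  choose r hr using hT
  let f0 : ∀ (V : C) (g : V ⟶ U), (Fin 1 → T Y g) → S.X₂.obj (op V) :=
    fun V g τ => S.X₂.map (τ 0).1.2.op (r (τ 0).1.1)
  obtain ⟨x, hx⟩ := exists_ev_eq Y S.X₂ (n := 0) f0 (fun V W g b τ => by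
    show S.X₂.map (b ≫ (τ 0).1.2).op (r _) = (S.X₂.map b.op) (S.X₂.map (τ 0).1.2.op (r _))
    rw [op_comp, Functor.map_comp]
    rfl)
  have hgx : ∀ (V : C) (g : V ⟶ U) (τ : Fin 1 → T Y g),
      S.g.app (op V) (ev Y S.X₂ τ x) = S.X₃.map g.op h := by
    intro V g τ
    rw [hx]
    refine (ConcreteCategory.congr_hom (S.g.naturality (τ 0).1.2.op) (r _)).trans ?_
    refine (congrArg (S.X₃.map (τ 0).1.2.op) (hr _)).trans ?_
    rw [← ConcreteCategory.comp_apply, ← Functor.map_comp, ← op_comp, (τ 0).2]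
  have hz : ∀ (V : C) (g : V ⟶ U) (τ : Fin 2 → T Y g),
      ∃ z, S.f.app (op V) z = ev Y S.X₂ τ ((d Y S.X₂ 0).hom x) := by
    intro V g τ
    refine he _ _ ?_
    rw [ev_d, map_sum, Fin.sum_univ_two, map_zsmul, map_zsmul]
    erw [hgx, hgx]
    rw [Fin.val_zero, pow_zero, one_smul, Fin.val_one, pow_one, neg_smul, one_smul, add_neg_cancel]
  choose z hz using hz
  obtain ⟨c, hc⟩ := exists_ev_eq Y S.X₁ (n := 1) z (fun V W g b τ => by
    apply hi (op W)
    refine (hz _ _ _).trans (Eq.trans ?_ (ConcreteCategory.congr_hom (S.f.naturality b.op) _).symm)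
    rw [ev_natural Y S.X₂ b rfl τ]
    exact (congrArg (S.X₂.map b.op).hom (hz V g τ)).symm)
  have hdc : (d Y S.X₁ 1).hom c = 0 := hom_ext Y _ fun V g τ => by
    apply hi (op V)
    show (S.f.app (op V)).hom _ = _
    rw [← ev_mapC Y S.f]
    have hfc : (mapC Y S.f 1).hom c = (d Y S.X₂ 0).hom x :=
      hom_ext Y _ fun V g τ => by rw [ev_mapC, hc]; exact hz V g τ
    have hcomm : (mapC Y S.f 2).hom ((d Y S.X₁ 1).hom c) = (d Y S.X₂ 1).hom ((mapC Y S.f 1).hom c) :=
      (ConcreteCategory.congr_hom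
        (((cechComplexFunctor Y).map (Functor.whiskerLeft (Over.forget U).op S.f)).comm 1 2) c).symm
    rw [hcomm, hfc, d_d, map_zero, map_zero, map_zero]
  obtain ⟨w, hw⟩ := exists_of_isZero_cechH_succ Y S.X₁ h0 c hdc
  let x' := x - (mapC Y S.f 0).hom w
  have hx' : ∀ (V : C) (g : V ⟶ U) (τ : Fin 2 → T Y g),
      ev Y S.X₂ (τ ∘ (0 : Fin 2).succAbove) x' = ev Y S.X₂ (τ ∘ (1 : Fin 2).succAbove) x' := by
    intro V g τ
    have hfc : (mapC Y S.f 1).hom c = (d Y S.X₂ 0).hom x :=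
      hom_ext Y _ fun V g τ => by rw [ev_mapC, hc]; exact hz V g τ
    have hcomm : (mapC Y S.f 1).hom ((d Y S.X₁ 0).hom w) = (d Y S.X₂ 0).hom ((mapC Y S.f 0).hom w) :=
      (ConcreteCategory.congr_hom
        (((cechComplexFunctor Y).map (Functor.whiskerLeft (Over.forget U).op S.f)).comm 0 1) w).symm
    have : ev Y S.X₂ τ ((d Y S.X₂ 0).hom x') = 0 := by
      rw [map_sub, ← hcomm, hw, hfc, sub_self, map_zero]
    rw [ev_d, Fin.sum_univ_two, Fin.val_zero, pow_zero, one_smul, Fin.val_one, pow_one, neg_smul, one_smul,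
      add_neg_eq_zero] at this
    exact this
  let single : ∀ (i : ι) (V : C) (a : V ⟶ (Y i).left), Fin 1 → T Y (a ≫ (Y i).hom) :=
    fun i V a _ => ⟨⟨i, a⟩, rfl⟩
  let s : ∀ i, S.X₂.obj (op (Y i).left) := fun i => ev Y S.X₂ (single i _ (𝟙 _)) x'
  have hs : ∀ (i : ι) (V : C) (a : V ⟶ (Y i).left), S.X₂.map a.op (s i) = ev Y S.X₂ (single i V a) x' := by
    intro i V a
    refine (ev_natural Y S.X₂ a rfl (single i _ (𝟙 _)) x').symm.trans (ev_congr Y S.X₂ (fun k => ?_) x')
    exact Sigma.ext rfl (heq_of_eq (Category.comp_id a))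
  obtain ⟨t, ht, -⟩ := (Presieve.isSheafFor_arrows_iff _ _).1 h₂ s (fun i k V a b hab => by
    refine (hs i V a).trans (Eq.trans ?_ (hs k V b).symm)
    let τ : Fin 2 → T Y (a ≫ (Y i).hom) :=
      Fin.cons ⟨⟨k, b⟩, hab.symm⟩ (fun _ => ⟨⟨i, a⟩, rfl⟩)
    refine (ev_congr Y S.X₂ (fun l => ?_) x').trans ((hx' _ _ τ).trans (ev_congr Y S.X₂ (fun l => ?_) x'))
    · obtain rfl := Subsingleton.elim (α := Fin 1) l 0; rfl
    · obtain rfl := Subsingleton.elim (α := Fin 1) l 0; rfl)
  suffices key : ∀ i, S.X₃.map (Y i).hom.op (S.g.app (op U) t) = S.X₃.map (Y i).hom.op h by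
    refine ⟨t, h₃.ext ?_⟩
    intro V g hg
    cases hg with
    | mk i => exact key i
  intro i
  refine (ConcreteCategory.congr_hom (S.g.naturality (Y i).hom.op) t).symm.trans ?_
  refine (congrArg (S.g.app (op (Y i).left)) (ht i)).trans ?_
  show S.g.app _ (ev Y S.X₂ (single i _ (𝟙 _)) x') = _
  rw [map_sub, map_sub, ev_mapC, show (S.g.app (op (Y i).left)).hom ((S.f.app (op (Y i).left)).hom
      (ev Y S.X₁ (single i _ (𝟙 _)) w)) = 0 from ConcreteCategory.congr_hom
      ((NatTrans.comp_app S.f S.g _).symm.trans (congrArg (fun m => NatTrans.app m (op (Y i).left)) S.zero)) _, sub_zero]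
  refine (hgx _ _ _).trans ?_
  rw [Category.id_comp]

end Groth.Agent.H18Cech
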