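import Groth.Agent.H18Cech.Generic
import Mathlib.CategoryTheory.Limits.Preserves.Shapes.Over
import Mathlib.CategoryTheory.Limits.Preserves.Shapes.Products
import Mathlib.CategoryTheory.Limits.Constructions.FiniteProductsOfBinaryProducts

/-!
# Čech cohomology of a direct image along a left exact functor of sites
-/

set_option autoImplicit false

universe w v u v' u'

open CategoryTheory CategoryTheory.Limits Opposite

namespace Groth.Agent.H18Cech

set_option backward.isDefEq.respectTransparency false

variable {C : Type u} [Category.{v} C] {D : Type u'} [Category.{v'} D] (F : C ⥤ D)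
  [PreservesLimitsOfShape WalkingCospan F] {U : C}

theorem preservesFiniteProducts_overPost [HasFiniteProducts (Over U)] :
    PreservesFiniteProducts (Over.post F : Over U ⥤ Over (F.obj U)) := by
  haveI : PreservesLimitsOfShape (WidePullbackShape WalkingPair) F :=
    inferInstanceAs (PreservesLimitsOfShape WalkingCospan F)
  haveI : PreservesLimitsOfShape (Discrete WalkingPair)
      (Over.post F : Over U ⥤ Over (F.obj U)) := inferInstance
  let t : IsTerminal ((Over.post F).obj (Over.mk (𝟙 U))) :=
    Over.mkIdTerminal.ofIso (Over.isoMk (Iso.refl _) ((Category.id_comp _).trans (F.map_id U)))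
  haveI : PreservesLimit (Functor.empty.{0} (Over U)) (Over.post F : Over U ⥤ Over (F.obj U)) :=
    preservesLimit_of_preserves_limit_cone Over.mkIdTerminal
      ((isLimitMapConeEmptyConeEquiv (Over.post F) (Over.mk (𝟙 U))).symm t)
  haveI := preservesLimitsOfShape_pempty_of_preservesTerminal
    (Over.post F : Over U ⥤ Over (F.obj U))
  exact PreservesFiniteProducts.of_preserves_binary_and_terminal _

variable [HasFiniteProducts (Over U)] [HasFiniteProducts (Over (F.obj U))] {ι : Type w} (Y : ι → Over U)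

/-- The image family. -/
noncomputable abbrev imY : ι → Over (F.obj U) := fun i => (Over.post F).obj (Y i)

/-- The comparison of fibre products. -/
noncomputable def prodIso {n : ℕ} (a : Fin (n + 1) → ι) :
    (Over.post F).obj (∏ᶜ (Y ∘ a)) ≅ ∏ᶜ (imY F Y ∘ a) :=
  haveI := preservesFiniteProducts_overPost F (U := U)
  PreservesProduct.iso (Over.post F) (Y ∘ a)

theorem prodIso_hom_π {n : ℕ} (a : Fin (n + 1) → ι) (k : Fin (n + 1)) :
    (prodIso F Y a).hom ≫ Pi.π (imY F Y ∘ a) k = (Over.post F).map (Pi.π (Y ∘ a) k) := by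
  haveI := preservesFiniteProducts_overPost F (U := U)
  exact piComparison_comp_π (Over.post F) (Y ∘ a) k

theorem prodIso_face {n : ℕ} (j : Fin (n + 2)) (a : Fin (n + 2) → ι) :
    (prodIso F Y a).hom ≫ faceOver (imY F Y) j a =
      (Over.post F).map (faceOver Y j a) ≫ (prodIso F Y (a ∘ j.succAbove)).hom := by
  refine Pi.hom_ext _ _ fun k => ?_
  refine (Category.assoc _ _ _).trans (Eq.trans ?_ (Category.assoc _ _ _).symm)
  refine (congrArg (_ ≫ ·) (Pi.lift_π (fun k => Pi.π (imY F Y ∘ a) (j.succAbove k)) k)).trans ?_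
  refine (prodIso_hom_π F Y a (j.succAbove k)).trans ?_
  refine Eq.trans ?_ (congrArg (_ ≫ ·) (prodIso_hom_π F Y (a ∘ j.succAbove) k)).symm
  exact (congrArg (Over.post F).map (Pi.lift_π (fun k => Pi.π (Y ∘ a) (j.succAbove k)) k)).symm.trans
    ((Over.post F).map_comp _ _)

variable (P : Dᵒᵖ ⥤ AddCommGrpCat.{w})

/-- The iso of cochain groups. -/
noncomputable def termIso (n : ℕ) : C' (imY F Y) P n ≅ C' Y (F.op ⋙ P) n :=
  Pi.mapIso fun a => P.mapIso ((Over.forget _).mapIso (prodIso F Y a)).op

theorem termIso_π {n : ℕ} (a : Fin (n + 1) → ι) :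
    (termIso F Y P n).hom ≫ Pi.π (val Y (F.op ⋙ P) n) a =
      Pi.π (val (imY F Y) P n) a ≫ P.map (prodIso F Y a).hom.left.op :=
  Pi.map_π (fun a => P.map (prodIso F Y a).hom.left.op) a

theorem termIso_face (n : ℕ) (j : Fin (n + 2)) :
    (termIso F Y P n).hom ≫ face Y (F.op ⋙ P) n j = face (imY F Y) P n j ≫ (termIso F Y P (n + 1)).hom := by
  refine Pi.hom_ext _ _ fun a => ?_
  rw [Category.assoc, Category.assoc, termIso_π]
  rw [show face Y (F.op ⋙ P) n j ≫ Pi.π (val Y (F.op ⋙ P) (n + 1)) a = _ from Pi.lift_π _ a]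
  rw [← Category.assoc (face (imY F Y) P n j), show face (imY F Y) P n j ≫ Pi.π (val (imY F Y) P (n + 1)) a = _ from Pi.lift_π _ a]
  rw [← Category.assoc, termIso_π, Category.assoc, Category.assoc]
  refine congrArg (Pi.π (val (imY F Y) P n) (a ∘ j.succAbove) ≫ ·) ?_
  show P.map _ ≫ P.map (F.map (faceOver Y j a).left).op = P.map _ ≫ P.map _
  rw [← Functor.map_comp, ← Functor.map_comp, ← op_comp, ← op_comp]
  refine congrArg (fun m => P.map (Quiver.Hom.op m)) ?_
  exact (congrArg (fun m => CommaMorphism.left m) (prodIso_face F Y j a)).symm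

/-- The iso of complexes. -/
noncomputable def cechIso : EtCech.cechComplex (imY F Y) P ≅ EtCech.cechComplex Y (F.op ⋙ P) :=
  HomologicalComplex.Hom.isoOfComponents (fun n => termIso F Y P n) fun i j h => by
    obtain rfl : i + 1 = j := h
    show (termIso F Y P i).hom ≫ d Y (F.op ⋙ P) i = d (imY F Y) P i ≫ (termIso F Y P (i + 1)).hom
    rw [d_eq, d_eq, Preadditive.comp_sum, Preadditive.sum_comp]
    refine Finset.sum_congr rfl fun k _ => ?_
    rw [Preadditive.comp_zsmul, Preadditive.zsmul_comp, termIso_face]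

theorem isZero_cechH_push {n : ℕ} (h : IsZero (EtCech.cechH (imY F Y) P n)) :
    IsZero (EtCech.cechH Y (F.op ⋙ P) n) :=
  h.of_iso ((HomologicalComplex.homologyFunctor _ _ n).mapIso (cechIso F Y P)).symm

end Groth.Agent.H18Cech
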